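/-
Standard S(2,3,9), S(4,5,11), S(5,6,12) as lists of numbers, with the maps needed for uniqueness.
-/
import Cfsg.Agent.Lib.Spor.DesignSearch

set_option autoImplicit false

namespace CfsgLib.Spor.Search

/-- Lines of the affine plane of order three. -/
def ag : List ℕ := [7, 25, 42, 84, 97, 146, 164, 200, 268, 304, 322, 385]

/-- Maps for the completions of the seed. -/
def agPerms : List (List ℕ × List ℕ) := [
  ([0, 1, 2, 3, 4, 5, 6, 7, 8], [0, 1, 2, 3, 4, 5, 6, 7, 8]),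
  ([0, 1, 2, 3, 4, 5, 6, 8, 7], [0, 1, 2, 3, 4, 5, 6, 8, 7]),
  ([0, 1, 2, 3, 4, 6, 5, 7, 8], [0, 1, 2, 3, 4, 6, 5, 7, 8]),
  ([0, 1, 2, 3, 4, 6, 5, 8, 7], [0, 1, 2, 3, 4, 6, 5, 8, 7]),
  ([0, 1, 2, 3, 4, 7, 8, 5, 6], [0, 1, 2, 3, 4, 7, 8, 5, 6]),
  ([0, 1, 2, 3, 4, 8, 7, 5, 6], [0, 1, 2, 3, 4, 7, 8, 6, 5]),
  ([0, 1, 2, 3, 4, 7, 8, 6, 5], [0, 1, 2, 3, 4, 8, 7, 5, 6]),
  ([0, 1, 2, 3, 4, 8, 7, 6, 5], [0, 1, 2, 3, 4, 8, 7, 6, 5])]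

/-- The standard S(4,5,11). -/
def k11 : List ℕ := [47, 87, 121, 155, 182, 220, 229, 234, 285, 314, 334, 355, 372, 391, 428, 433, 457, 466, 542, 565, 587, 620, 626, 653, 675, 696, 710, 721, 787, 806, 809, 837, 856, 906, 916, 992, 1075, 1084, 1101, 1114, 1126, 1166, 1173, 1193, 1219, 1264, 1291, 1302, 1317, 1361, 1384, 1432, 1442, 1476, 1543, 1561, 1578, 1620, 1633, 1682, 1700, 1736, 1804, 1840, 1858, 1921]

/-- Maps for the completions of the seed. -/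
def k11Perms : List (List ℕ × List ℕ) := [
  ([0, 1, 2, 3, 4, 5, 6, 7, 8, 9, 10], [0, 1, 2, 3, 4, 5, 6, 7, 8, 9, 10]),
  ([0, 1, 2, 3, 6, 9, 10, 4, 5, 8, 7], [0, 1, 2, 3, 7, 8, 4, 10, 9, 5, 6]),
  ([0, 1, 2, 3, 5, 10, 8, 9, 7, 6, 4], [0, 1, 2, 3, 10, 4, 9, 8, 6, 7, 5]),
  ([0, 1, 2, 3, 6, 9, 10, 4, 5, 7, 8], [0, 1, 2, 3, 7, 8, 4, 9, 10, 5, 6]),
  ([0, 1, 2, 3, 5, 10, 8, 9, 7, 4, 6], [0, 1, 2, 3, 9, 4, 10, 8, 6, 7, 5]),
  ([0, 1, 2, 3, 4, 5, 6, 7, 8, 10, 9], [0, 1, 2, 3, 4, 5, 6, 7, 8, 10, 9])]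

/-- The standard S(5,6,12). -/
def k12 : List ℕ := [126, 189, 207, 243, 311, 347, 365, 414, 427, 469, 486, 504, 571, 605, 615, 663, 686, 730, 745, 756, 783, 828, 854, 874, 881, 921, 933, 946, 963, 972, 1055, 1131, 1141, 1191, 1210, 1238, 1241, 1260, 1326, 1337, 1351, 1372, 1394, 1421, 1427, 1460, 1482, 1505, 1581, 1590, 1614, 1619, 1656, 1675, 1692, 1713, 1733, 1762, 1813, 1818, 1827, 1865, 1892, 1926, 1960, 2000, 2095, 2135, 2169, 2203, 2230, 2268, 2277, 2282, 2333, 2362, 2382, 2403, 2420, 2439, 2476, 2481, 2505, 2514, 2590, 2613, 2635, 2668, 2674, 2701, 2723, 2744, 2758, 2769, 2835, 2854, 2857, 2885, 2904, 2954, 2964, 3040, 3123, 3132, 3149, 3162, 3174, 3214, 3221, 3241, 3267, 3312, 3339, 3350, 3365, 3409, 3432, 3480, 3490, 3524, 3591, 3609, 3626, 3668, 3681, 3730, 3748, 3784, 3852, 3888, 3906, 3969]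

theorem check_ag : checkUnique 9 (completions 9 2 3 [7, 25, 97, 385]) agPerms ag = true := by
  decide +kernel

theorem check_k11 : checkUnique 11 (completions 11 4 5 (ag.map (· ||| 1536))) k11Perms k11 = true := by
  decide +kernel

theorem k12_eq : ∀ m ∈ k12, (m.testBit 11 = true ∧ (m - 2048) ∈ k11) ∨ (m.testBit 11 = false ∧ (4095 - m - 2048) ∈ k11) := by
  decide +kernel

end CfsgLib.Spor.Search
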