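/-
Uniqueness of S(2,3,9), S(4,5,11) and S(5,6,12).
-/
import Cfsg.Agent.Lib.Spor.SmallSteiner.Data
import Cfsg.Agent.Lib.Spor.SteinerMeets
import Mathlib.Data.Finset.Option

set_option autoImplicit false

namespace CfsgLib.Spor.Search

open Cfsg Finset

variable {γ : Type*} [Fintype γ] [DecidableEq γ]

theorem mset_list : mset 9 7 = ({0, 1, 2} : Finset (Fin 9)) ∧ mset 9 25 = ({0, 3, 4} : Finset (Fin 9)) ∧
    mset 9 97 = ({0, 5, 6} : Finset (Fin 9)) ∧ mset 9 385 = ({0, 7, 8} : Finset (Fin 9)) := by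
  decide +kernel

theorem blocks_card {B : Finset (Finset γ)} {k t : ℕ} (hk : ∀ b ∈ B, b.card = k)
    (hu : ∀ F : Finset γ, F.card = t → ∃! b, b ∈ B ∧ F ⊆ b) :
    B.card * k.choose t = (Fintype.card γ).choose t := by
  have h := Steiner.blocks_through hk hu ∅ (by simp)
  simpa using h

theorem ag_unique (hγ : Fintype.card γ = 9) {B : Finset (Finset γ)} (hk : ∀ b ∈ B, b.card = 3)
    (hu : ∀ F : Finset γ, F.card = 2 → ∃! b, b ∈ B ∧ F ⊆ b) :
    ∃ f : γ ≃ Fin 9, ∀ X : Finset γ, X ∈ B ↔ ∃ m ∈ ag, X.image f = mset 9 m := by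
  classical
  obtain ⟨o⟩ : Nonempty γ := Fintype.card_pos_iff.1 (by omega)
  have h4 := Steiner.blocks_through hk hu {o} (by simp)
  simp [hγ, Nat.choose, singleton_subset_iff] at h4
  have h4' : (B.filter fun b => o ∈ b).card = 4 := by omega
  let L := (equivFinOfCardEq h4').symm
  have hL : ∀ i, (L i).1 ∈ B ∧ o ∈ (L i).1 := fun i => mem_filter.1 (L i).2
  have hr : ∀ i, ∃ u v, u ≠ v ∧ u ≠ o ∧ v ≠ o ∧ (L i).1 = {o, u, v} := by
    intro i
    have h2 : ((L i).1.erase o).card = 2 := by rw [card_erase_of_mem (hL i).2, hk _ (hL i).1]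
    obtain ⟨u, v, huv, he⟩ := card_eq_two.1 h2
    refine ⟨u, v, huv, ne_of_mem_erase (by rw [he]; simp : u ∈ (L i).1.erase o),
      ne_of_mem_erase (by rw [he]; simp : v ∈ (L i).1.erase o), ?_⟩
    rw [← insert_erase (hL i).2, he]
  choose u v huv huo hvo hLe using hr
  let g : Fin 9 → γ := ![o, u 0, v 0, u 1, v 1, u 2, v 2, u 3, v 3]
  have hsurj : Function.Surjective g := by
    intro x
    by_cases hx : x = o
    · exact ⟨0, hx.symm⟩
    · obtain ⟨b, ⟨hb, hxb⟩, -⟩ := hu {o, x} (card_pair (Ne.symm hx))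
      obtain ⟨i, hi⟩ := L.surjective ⟨b, mem_filter.2 ⟨hb, hxb (by simp)⟩⟩
      have hm : x ∈ ({o, u i, v i} : Finset γ) := hLe i ▸ (congrArg Subtype.val hi).symm ▸ hxb (by simp)
      simp only [mem_insert, mem_singleton] at hm
      rcases hm with h | h | h
      · exact absurd h hx
      · subst h; fin_cases i <;> [exact ⟨1, rfl⟩; exact ⟨3, rfl⟩; exact ⟨5, rfl⟩; exact ⟨7, rfl⟩]
      · subst h; fin_cases i <;> [exact ⟨2, rfl⟩; exact ⟨4, rfl⟩; exact ⟨6, rfl⟩; exact ⟨8, rfl⟩]
  have hbij : Function.Bijective g :=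
    (Fintype.bijective_iff_surjective_and_card g).2 ⟨hsurj, by rw [hγ, Fintype.card_fin]⟩
  let e := (Equiv.ofBijective g hbij).symm
  have he : ∀ k, e (g k) = k := fun k => (Equiv.ofBijective g hbij).symm_apply_apply k
  have hB12 : B.card = 12 := by
    have h := blocks_card hk hu
    rw [hγ] at h
    simp [Nat.choose] at h
    omega
  refine standard_form (n := 9) (t := 2) (k := 3) (by norm_num) hk hu e [7, 25, 97, 385] ?_ (by decide) agPerms ag
    (by decide) (by rw [hB12]; decide) check_ag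
  obtain ⟨e1, e2, e3, e4⟩ := mset_list
  have key : ∀ i p q, e o = 0 → e (u i) = p → e (v i) = q → ∃ b ∈ B, b.image e = {0, p, q} := fun i p q h0 hp hq =>
    ⟨_, (hL i).1, by rw [hLe i, image_insert, image_insert, image_singleton, h0, hp, hq]⟩
  intro a ha
  simp only [List.mem_cons, List.not_mem_nil, or_false] at ha
  rcases ha with rfl | rfl | rfl | rfl
  · rw [e1]; exact key 0 1 2 (he 0) (he 1) (he 2)
  · rw [e2]; exact key 1 3 4 (he 0) (he 3) (he 4)
  · rw [e3]; exact key 2 5 6 (he 0) (he 5) (he 6)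
  · rw [e4]; exact key 3 7 8 (he 0) (he 7) (he 8)

theorem k11_unique (hγ : Fintype.card γ = 11) {B : Finset (Finset γ)} (hk : ∀ b ∈ B, b.card = 5)
    (hu : ∀ F : Finset γ, F.card = 4 → ∃! b, b ∈ B ∧ F ⊆ b) :
    ∃ f : γ ≃ Fin 11, ∀ X : Finset γ, X ∈ B ↔ ∃ m ∈ k11, X.image f = mset 11 m := by
  classical
  obtain ⟨a, b, hab⟩ := Fintype.exists_pair_of_one_lt_card (by omega : 1 < Fintype.card γ)
  let P : γ → Prop := fun x => x ≠ a ∧ x ≠ b
  let δ := {x // P x}
  have hδ : Fintype.card δ = 9 := by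
    rw [Fintype.card_subtype, show (univ.filter P) = ({a, b} : Finset γ)ᶜ by ext x; simp [P], card_compl, card_pair hab, hγ]
  let B' : Finset (Finset δ) := (B.filter fun c => a ∈ c ∧ b ∈ c).image fun c => c.subtype P
  have hab2 : ∀ c : Finset γ, a ∈ c → b ∈ c → c.filter P = (c.erase a).erase b := fun c _ _ => by
    ext x; simp [P]; tauto
  have hk' : ∀ c ∈ B', c.card = 3 := by
    intro c hc
    obtain ⟨d, hd, rfl⟩ := mem_image.1 hc
    obtain ⟨hd1, hd2, hd3⟩ := mem_filter.1 hd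
    rw [card_subtype, hab2 d hd2 hd3, card_erase_of_mem (mem_erase.2 ⟨hab.symm, hd3⟩), card_erase_of_mem hd2, hk d hd1]
  have hu' : ∀ F : Finset δ, F.card = 2 → ∃! c, c ∈ B' ∧ F ⊆ c := by
    intro F hF
    set F4 : Finset γ := insert a (insert b (F.map (Function.Embedding.subtype _))) with hF4
    have hna : a ∉ insert b (F.map (Function.Embedding.subtype _)) := by
      simp only [mem_insert, mem_map, not_or]
      exact ⟨hab, fun ⟨x, _, hx⟩ => x.2.1 hx⟩
    have hnb : b ∉ F.map (Function.Embedding.subtype _) := by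
      simp only [mem_map]
      exact fun ⟨x, _, hx⟩ => x.2.2 hx
    obtain ⟨d, ⟨hd, hFd⟩, huniq⟩ := hu F4 (by rw [hF4, card_insert_of_notMem hna, card_insert_of_notMem hnb, card_map, hF])
    refine ⟨d.subtype P, ⟨mem_image_of_mem _ (mem_filter.2 ⟨hd, hFd (by simp [hF4]), hFd (by simp [hF4])⟩),
      fun x hx => mem_subtype.2 (hFd (mem_insert_of_mem (mem_insert_of_mem (mem_map_of_mem _ hx))))⟩, ?_⟩
    rintro c ⟨hc, hFc⟩
    obtain ⟨d', hd', rfl⟩ := mem_image.1 hc
    obtain ⟨h1, h2, h3⟩ := mem_filter.1 hd'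
    rw [huniq d' ⟨h1, fun x hx => ?_⟩]
    rcases mem_insert.1 hx with rfl | hx
    · exact h2
    rcases mem_insert.1 hx with rfl | hx
    · exact h3
    obtain ⟨y, hy, rfl⟩ := mem_map.1 hx
    exact mem_subtype.1 (hFc hy)
  obtain ⟨f, hf⟩ := ag_unique hδ hk' hu'
  let g : γ → Fin 11 := fun x => if h : P x then Fin.castLE (by norm_num) (f ⟨x, h⟩) else if x = a then 9 else 10
  have hgP : ∀ (x : γ) (h : P x), g x = Fin.castLE (by norm_num) (f ⟨x, h⟩) := fun x h => dif_pos h
  have hga : g a = 9 := by simp [g, P]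
  have hgb : g b = 10 := by simp [g, P, hab.symm]
  have hg9 : ∀ x, P x → (g x).1 < 9 := fun x h => by rw [hgP x h]; exact (f ⟨x, h⟩).2
  have hcases : ∀ x, P x ∨ x = a ∨ x = b := fun x => by simp only [P]; tauto
  have hinj : Function.Injective g := by
    intro x y hxy
    rcases hcases x with hx | hx | hx <;> rcases hcases y with hy | hy | hy
    · rw [hgP x hx, hgP y hy] at hxy
      exact congrArg Subtype.val (f.injective (Fin.castLE_injective _ hxy))
    all_goals first
      | exact hx.trans hy.symm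
      | (exfalso; subst hy; have := hg9 x hx; rw [hxy] at this; first | (rw [hga] at this; simp at this) | (rw [hgb] at this; simp at this))
      | (exfalso; subst hx; have := hg9 y hy; rw [← hxy] at this; first | (rw [hga] at this; simp at this) | (rw [hgb] at this; simp at this))
      | (exfalso; subst hx; subst hy; rw [hga, hgb] at hxy; simp at hxy)
      | (exfalso; subst hx; subst hy; rw [hgb, hga] at hxy; simp at hxy)
  let e := Equiv.ofBijective g ((Fintype.bijective_iff_injective_and_card g).2 ⟨hinj, by rw [hγ, Fintype.card_fin]⟩)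
  have hB66 : B.card = 66 := by
    have h := blocks_card hk hu
    rw [hγ] at h
    simp [Nat.choose] at h
    omega
  refine standard_form (n := 11) (t := 4) (k := 5) (by norm_num) hk hu e (ag.map (· ||| 1536)) ?_ (by decide +kernel)
    k11Perms k11 (by decide +kernel) (by rw [hB66]; decide +kernel) check_k11
  intro m hm
  obtain ⟨m0, hm0, rfl⟩ := List.mem_map.1 hm
  have hlt : m0 < 2 ^ 9 := (by decide : ∀ m ∈ ag, m < 2 ^ 9) m0 hm0
  obtain ⟨c, hc⟩ : ∃ c, c.image f = mset 9 m0 := ⟨(mset 9 m0).image f.symm, by rw [image_image, Equiv.self_comp_symm, image_id]⟩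
  obtain ⟨d, hd, rfl⟩ := mem_image.1 ((hf c).2 ⟨m0, hm0, hc⟩)
  obtain ⟨hd1, hd2, hd3⟩ := mem_filter.1 hd
  refine ⟨d, hd1, ?_⟩
  ext i
  rw [mem_mset, Nat.testBit_or, mem_image]
  constructor
  · rintro ⟨x, hx, rfl⟩
    show (m0.testBit (g x).1 || (1536 : ℕ).testBit (g x).1) = true
    rcases hcases x with h | h | h
    · rw [hgP x h]
      have : f ⟨x, h⟩ ∈ mset 9 m0 := hc ▸ mem_image_of_mem _ (mem_subtype.2 hx)
      simp [mem_mset.1 this]
    · rw [h, hga]; simp only [Bool.or_eq_true]; right; decide +kernel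
    · rw [h, hgb]; simp only [Bool.or_eq_true]; right; decide +kernel
  · intro h
    obtain ⟨x, rfl⟩ := e.surjective i
    refine ⟨x, ?_, rfl⟩
    rcases hcases x with hx | hx | hx
    · have h' : (m0.testBit (g x).1 || (1536 : ℕ).testBit (g x).1) = true := h
      rw [hgP x hx] at h'
      have hsm : ∀ j : Fin 9, (1536 : ℕ).testBit j.1 = false := by decide
      rw [Fin.val_castLE, hsm, Bool.or_false] at h'
      have hmem : f ⟨x, hx⟩ ∈ (d.subtype P).image f := hc.symm ▸ mem_mset.2 h'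
      obtain ⟨y, hy, hye⟩ := mem_image.1 hmem
      rw [f.injective hye] at hy
      exact mem_subtype.1 hy
    · exact hx ▸ hd2
    · exact hx ▸ hd3

/-- The standard system on twelve points. -/
theorem k12_unique (hγ : Fintype.card γ = 12) {B : Finset (Finset γ)} (hk : ∀ b ∈ B, b.card = 6)
    (hu : ∀ F : Finset γ, F.card = 5 → ∃! b, b ∈ B ∧ F ⊆ b) (z : γ) :
    ∃ f : γ ≃ Fin 12, f z = 11 ∧ ∀ X : Finset γ, X ∈ B ↔ ∃ m ∈ k12, X.image f = mset 12 m := by
  classical
  let δ := {x // x ≠ z}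
  have hδ : Fintype.card δ = 11 := by
    rw [Fintype.card_subtype_compl, Fintype.card_subtype_eq, hγ]
  let B' : Finset (Finset δ) := (B.filter fun c => z ∈ c).image fun c => c.subtype fun x => x ≠ z
  have hk' : ∀ c ∈ B', c.card = 5 := by
    intro c hc
    obtain ⟨d, hd, rfl⟩ := mem_image.1 hc
    obtain ⟨hd1, hd2⟩ := mem_filter.1 hd
    rw [card_subtype, filter_ne', card_erase_of_mem hd2, hk d hd1]
  have hu' : ∀ F : Finset δ, F.card = 4 → ∃! c, c ∈ B' ∧ F ⊆ c := by
    intro F hF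
    have hn : z ∉ F.map (Function.Embedding.subtype _) := fun h => by
      obtain ⟨x, -, hx⟩ := mem_map.1 h
      exact x.2 hx
    obtain ⟨d, ⟨hd, hFd⟩, huniq⟩ := hu (insert z (F.map (Function.Embedding.subtype _)))
      (by rw [card_insert_of_notMem hn, card_map, hF])
    refine ⟨d.subtype _, ⟨mem_image_of_mem _ (mem_filter.2 ⟨hd, hFd (by simp)⟩),
      fun x hx => mem_subtype.2 (hFd (mem_insert_of_mem (mem_map_of_mem _ hx)))⟩, ?_⟩
    rintro c ⟨hc, hFc⟩
    obtain ⟨d', hd', rfl⟩ := mem_image.1 hc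
    obtain ⟨h1, h2⟩ := mem_filter.1 hd'
    rw [huniq d' ⟨h1, fun x hx => ?_⟩]
    rcases mem_insert.1 hx with rfl | hx
    · exact h2
    obtain ⟨y, hy, rfl⟩ := mem_map.1 hx
    exact mem_subtype.1 (hFc hy)
  obtain ⟨f, hf⟩ := k11_unique hδ hk' hu'
  let g : γ → Fin 12 := fun x => if h : x ≠ z then Fin.castLE (by norm_num) (f ⟨x, h⟩) else 11
  have hgne : ∀ (x : γ) (h : x ≠ z), g x = Fin.castLE (by norm_num) (f ⟨x, h⟩) := fun x h => dif_pos h
  have hgz : g z = 11 := by simp [g]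
  have hinj : Function.Injective g := by
    intro x y hxy
    by_cases hx : x = z <;> by_cases hy : y = z
    · rw [hx, hy]
    · exfalso; rw [hx, hgz, hgne y hy] at hxy
      have := congrArg Fin.val hxy; simp at this; omega
    · exfalso; rw [hy, hgz, hgne x hx] at hxy
      have := congrArg Fin.val hxy; simp at this; omega
    · rw [hgne x hx, hgne y hy] at hxy
      exact congrArg Subtype.val (f.injective (Fin.castLE_injective _ hxy))
  let e := Equiv.ofBijective g ((Fintype.bijective_iff_injective_and_card g).2 ⟨hinj, by rw [hγ, Fintype.card_fin]⟩)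
  have hB132 : B.card = 132 := by
    have h := blocks_card hk hu
    rw [hγ] at h
    simp [Nat.choose] at h
    omega
  have hcompl : ∀ c ∈ B, cᶜ ∈ B := by
    intro c hc
    obtain ⟨h0, -⟩ := Steiner.meet_twelve hγ hk hu hc
    obtain ⟨d, hd⟩ := card_pos.1 (h0.symm ▸ Nat.one_pos : 0 < Steiner.meetNum B c 0)
    obtain ⟨hd1, hd2⟩ := mem_filter.1 hd
    have hdB := mem_of_mem_erase hd1
    have e' : d = cᶜ := eq_of_subset_of_card_le
      (fun x hx => mem_compl.2 fun h => notMem_empty x (card_eq_zero.1 hd2 ▸ mem_inter.2 ⟨hx, h⟩))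
      (by rw [card_compl, hk c hc, hk d hdB, hγ])
    exact e' ▸ hdB
  have hz : ∀ m, m ∈ k11 → ∃ c ∈ B, z ∈ c ∧ c.image e = mset 12 (m + 2048) := by
    intro m hm
    have hlt : m < 2 ^ 11 := (by decide +kernel : ∀ m ∈ k11, m < 2 ^ 11) m hm
    obtain ⟨c, hc⟩ : ∃ c, c.image f = mset 11 m := ⟨(mset 11 m).image f.symm, by rw [image_image, Equiv.self_comp_symm, image_id]⟩
    obtain ⟨d, hd, rfl⟩ := mem_image.1 ((hf c).2 ⟨m, hm, hc⟩)
    obtain ⟨hd1, hd2⟩ := mem_filter.1 hd
    refine ⟨d, hd1, hd2, ?_⟩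
    ext i
    have hadd : m + 2048 = 2 ^ 11 ||| m := by
      rw [Nat.add_comm, show (2048 : ℕ) = 2 ^ 11 * 1 by norm_num, Nat.two_pow_add_eq_or_of_lt hlt]
      norm_num
    rw [mem_mset, hadd, Nat.testBit_or, Nat.testBit_two_pow]
    obtain ⟨x, rfl⟩ := e.surjective i
    rw [mem_image]
    have hex : (∃ a ∈ d, e a = e x) ↔ x ∈ d := ⟨fun ⟨a, ha, h⟩ => e.injective h ▸ ha, fun h => ⟨x, h, rfl⟩⟩
    rw [hex]
    show x ∈ d ↔ (decide (11 = (g x).1) || m.testBit (g x).1) = true
    by_cases hx : x = z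
    · subst hx; simp [hgz, hd2]
    · rw [hgne x hx, Fin.val_castLE]
      have hne : ¬ 11 = (f ⟨x, hx⟩).1 := fun h => by have := (f ⟨x, hx⟩).2; omega
      simp only [hne, decide_false, Bool.false_or]
      rw [← mem_mset, ← hc, mem_image]
      exact ⟨fun h => ⟨⟨x, hx⟩, mem_subtype.2 h, rfl⟩, fun ⟨y, hy, hye⟩ => by
        rw [f.injective hye] at hy; exact mem_subtype.1 hy⟩
  have hall : ∀ m ∈ k12, ∃ c ∈ B, c.image e = mset 12 m := by
    intro m hm
    have hlt : m < 2 ^ 12 := (by decide +kernel : ∀ m ∈ k12, m < 2 ^ 12) m hm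
    rcases k12_eq m hm with ⟨hb, hk'⟩ | ⟨hb, hk'⟩
    · obtain ⟨c, hc, -, hce⟩ := hz _ hk'
      have hge := Nat.ge_two_pow_of_testBit hb
      rw [show m - 2048 + 2048 = m by omega] at hce
      exact ⟨c, hc, hce⟩
    · obtain ⟨c, hc, -, hce⟩ := hz _ hk'
      refine ⟨cᶜ, hcompl c hc, ?_⟩
      have hlt' : m < 2048 := by
        by_contra h
        obtain ⟨i, hi, hbit⟩ := Nat.exists_ge_and_testBit_of_ge_two_pow (n := 11) (by omega : 2 ^ 11 ≤ m)
        have : i = 11 := by
          by_contra hne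
          rw [Nat.testBit_eq_false_of_lt (lt_of_lt_of_le hlt (Nat.pow_le_pow_right (by norm_num) (by omega : 12 ≤ i)))] at hbit
          exact Bool.noConfusion hbit
        rw [this, hb] at hbit
        exact Bool.noConfusion hbit
      rw [show 4095 - m - 2048 + 2048 = 4095 - m by omega] at hce
      have hset : (cᶜ).image e = (c.image e)ᶜ := by
        ext i
        obtain ⟨x, rfl⟩ := e.surjective i
        simp
      rw [hset, hce]
      ext i
      rw [mem_compl, mem_mset, mem_mset, show 4095 - m = 2 ^ 12 - (m + 1) by omega,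
        Nat.testBit_two_pow_sub_succ hlt]
      simp [i.2]
  refine ⟨e, hgz, fun X => ?_⟩
  have hsub : k12.toFinset.image (mset 12) ⊆ B.image (fun c => c.image e) := by
    intro Y hY
    obtain ⟨m, hm, rfl⟩ := mem_image.1 hY
    obtain ⟨c, hc, hce⟩ := hall m (List.mem_toFinset.1 hm)
    exact mem_image.2 ⟨c, hc, hce⟩
  have heq := eq_of_subset_of_card_le hsub (by
    rw [card_image_of_injective _ (image_injective e.injective), hB132,
      card_image_of_injOn fun a ha b hb h => mset_injOn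
        ((by decide +kernel : ∀ m ∈ k12, m < 2 ^ 12) a (List.mem_toFinset.1 ha))
        ((by decide +kernel : ∀ m ∈ k12, m < 2 ^ 12) b (List.mem_toFinset.1 hb)) h,
      List.toFinset_card_of_nodup (by decide +kernel : k12.Nodup)]
    decide +kernel)
  rw [show X ∈ B ↔ X.image e ∈ B.image (fun c => c.image e) from
    ⟨fun h => mem_image_of_mem _ h, fun h => by
      obtain ⟨c, hc, hce⟩ := mem_image.1 h
      rwa [← image_injective e.injective hce]⟩, ← heq]
  simp [eq_comm]

end CfsgLib.Spor.Search
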