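/-
Uniqueness of the small Steiner systems, for families given as sets.
-/
import Cfsg.Agent.Lib.Spor.SmallSteiner.Unique
import Cfsg.Agent.Lib.Spor.SetSystemConj

set_option autoImplicit false

namespace CfsgLib.Spor.Search

open Cfsg Finset

/-- The family given by a list of numbers. -/
def fam (n : ℕ) (K : List ℕ) : Set (Finset (Fin n)) := {X | ∃ m ∈ K, X = mset n m}

variable {γ : Type*} [DecidableEq γ] {n : ℕ}

theorem image_eq_fam {K : List ℕ} {B : Set (Finset γ)} (f : γ ≃ Fin n)
    (h : ∀ X, X ∈ B ↔ ∃ m ∈ K, X.image f = mset n m) : (fun b : Finset γ => b.image f) '' B = fam n K := by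
  ext Y
  refine ⟨?_, fun ⟨m, hm, hY⟩ => ⟨Y.image f.symm, (h _).2 ⟨m, hm, ?_⟩, ?_⟩⟩
  · rintro ⟨X, hX, rfl⟩
    exact (h X).1 hX
  · rw [image_image, Equiv.self_comp_symm, image_id, hY]
  · show (Y.image f.symm).image f = Y
    rw [image_image, Equiv.self_comp_symm, image_id]

variable [Fintype γ]

theorem steiner12 (hγ : Fintype.card γ = 12) {B : Set (Finset γ)} (hB : IsSteinerSystem 5 6 B) :
    ∃ f : γ ≃ Fin 12, (fun b : Finset γ => b.image f) '' B = fam 12 k12 := by
  classical
  obtain ⟨z⟩ : Nonempty γ := Fintype.card_pos_iff.1 (by omega)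
  obtain ⟨f, -, hf⟩ := k12_unique hγ (B := B.toFinite.toFinset) (fun b hb => hB.1 b (by simpa using hb))
    (fun F hF => by simpa using hB.2 F hF) z
  exact ⟨f, image_eq_fam f fun X => by simpa using hf X⟩

theorem steiner11 (hγ : Fintype.card γ = 11) {B : Set (Finset γ)} (hB : IsSteinerSystem 4 5 B) :
    ∃ f : γ ≃ Fin 11, (fun b : Finset γ => b.image f) '' B = fam 11 k11 := by
  classical
  obtain ⟨f, hf⟩ := k11_unique hγ (B := B.toFinite.toFinset) (fun b hb => hB.1 b (by simpa using hb))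
    (fun F hF => by simpa using hB.2 F hF)
  exact ⟨f, image_eq_fam f fun X => by simpa using hf X⟩

theorem iso_of_fam {β : Type*} [DecidableEq β] {C : Set (Finset (Fin n))} {B : Set (Finset γ)} {B' : Set (Finset β)}
    (f : γ ≃ Fin n) (hf : (fun b : Finset γ => b.image f) '' B = C)
    (f' : β ≃ Fin n) (hf' : (fun b : Finset β => b.image f') '' B' = C) : SetSystemIso B B' := by
  refine ⟨f.trans f'.symm, ?_⟩
  rw [← CfsgLib.Spor.image_trans hf', ← hf, Set.image_image]
  refine congrArg (fun F => F '' B) (funext fun b => ?_)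
  simp [image_image, Function.comp_def]

/-- A derived system. -/
theorem derived {δ : Type*} [Fintype δ] [DecidableEq δ] {t k : ℕ} {B : Set (Finset γ)}
    (hB : IsSteinerSystem (t + 1) (k + 1) B) (ι : δ ↪ γ) (z : γ) (hι : ∀ x, x ≠ z ↔ ∃ y, ι y = x) :
    IsSteinerSystem t k {c : Finset δ | insert z (c.map ι) ∈ B} := by
  classical
  have hn : ∀ c : Finset δ, z ∉ c.map ι := fun c h => by
    obtain ⟨y, -, hy⟩ := mem_map.1 h
    exact (hι z).2 ⟨y, hy⟩ rfl
  refine ⟨fun c hc => ?_, fun s hs => ?_⟩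
  · have := hB.1 _ hc
    rw [card_insert_of_notMem (hn c), card_map] at this
    omega
  · obtain ⟨b, ⟨hb, hsb⟩, huniq⟩ := hB.2 (insert z (s.map ι)) (by rw [card_insert_of_notMem (hn s), card_map, hs])
    have hpre : ∀ b' : Finset γ, z ∈ b' → insert z ((univ.filter fun y => ι y ∈ b').map ι) = b' := fun b' hz => by
      ext x
      simp only [mem_insert, mem_map, mem_filter, mem_univ, true_and]
      refine ⟨?_, fun hx => ?_⟩
      · rintro (rfl | ⟨y, hy, rfl⟩) <;> assumption
      · by_cases h : x = z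
        · exact Or.inl h
        · obtain ⟨y, rfl⟩ := (hι x).1 h
          exact Or.inr ⟨y, hx, rfl⟩
    refine ⟨univ.filter fun y => ι y ∈ b, ⟨?_, fun y hy => mem_filter.2 ⟨mem_univ _, hsb (mem_insert_of_mem (mem_map_of_mem _ hy))⟩⟩, ?_⟩
    · show insert z _ ∈ B
      rw [hpre b (hsb (mem_insert_self _ _))]; exact hb
    · rintro c ⟨hc, hsc⟩
      have : insert z (c.map ι) = b := huniq _ ⟨hc, insert_subset_insert _ (map_subset_map.2 hsc)⟩
      ext y
      rw [← this]
      simp only [mem_filter, mem_univ, true_and, mem_insert, mem_map']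
      exact ⟨Or.inr, fun h => h.resolve_left fun e => (hι z).2 ⟨y, e⟩ rfl⟩

end CfsgLib.Spor.Search
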