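/-
Automorphisms of the standard small systems fixing as many points as the strength are trivial.
-/
import Cfsg.Agent.Lib.Spor.SmallSteiner.Iso
import Mathlib.Data.Fintype.CardEmbedding

set_option autoImplicit false

namespace CfsgLib.Spor.Search

open Cfsg Finset

/-- Arrangements of `k` members of a list. -/
def arr : ℕ → List ℕ → List (List ℕ)
  | 0, _ => [[]]
  | k + 1, L => L.flatMap fun a => (arr k (L.erase a)).map (a :: ·)

theorem mem_arr : ∀ {l L : List ℕ}, l.Nodup → (∀ a ∈ l, a ∈ L) → l ∈ arr l.length L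
  | [], _, _, _ => by simp [arr]
  | a :: l, L, hn, hs => by
    rw [List.nodup_cons] at hn
    simp only [List.length_cons, arr, List.mem_flatMap, List.mem_map]
    refine ⟨a, hs a (by simp), l, mem_arr hn.2 fun b hb => ?_, rfl⟩
    exact (List.mem_erase_of_ne fun e => hn.1 (by rwa [← e])).2 (hs b (List.mem_cons_of_mem _ hb))

/-- The list of images when the free points go to `l`. -/
def tbl (n : ℕ) (free l : List ℕ) : List ℕ :=
  (List.range n).map fun i => if free.contains i then l.getD (free.idxOf i) n else i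

/-- No nontrivial arrangement of the free points preserves the family. -/
def rigidOK (n : ℕ) (K free : List ℕ) : Bool :=
  (arr free.length free).all fun l => (l == free) || K.any fun m => !K.contains (mapMask (tbl n free l) n m)

theorem eq_one_of_rigid {n : ℕ} {K free : List ℕ} (hK : ∀ m ∈ K, m < 2 ^ n) (hok : rigidOK n K free = true)
    (hfree : free.Nodup) (hlt : ∀ i ∈ free, i < n) {g : Equiv.Perm (Fin n)} (hg : g ∈ setSystemAut (fam n K))
    (hfix : ∀ i : Fin n, i.1 ∉ free → g i = i) : g = 1 := by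
  let l := free.map fun i => if h : i < n then (g ⟨i, h⟩).1 else i
  have hl : ∀ i : Fin n, i.1 ∈ free → (g i).1 ∈ free := fun i hi => by
    by_contra h
    have e := g.injective (hfix _ h)
    rw [e] at h
    exact h hi
  have hlmem : l ∈ arr free.length free := by
    have hlen : l.length = free.length := List.length_map _
    rw [← hlen]
    refine mem_arr (List.Nodup.map_on (fun a ha b hb e => ?_) hfree) fun a ha => ?_
    · rw [dif_pos (hlt a ha), dif_pos (hlt b hb)] at e
      exact congrArg Fin.val (g.injective (Fin.ext e))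
    · obtain ⟨i, hi, rfl⟩ := List.mem_map.1 ha
      rw [dif_pos (hlt i hi)]
      exact hl ⟨i, hlt i hi⟩ hi
  have htbl : ∀ i : Fin n, (tbl n free l).getD i.1 n = (g i).1 := by
    intro i
    simp only [tbl, List.getD_eq_getElem?_getD, List.getElem?_map, List.getElem?_range i.2, Option.map_some,
      Option.getD_some, List.contains_iff_mem]
    by_cases h : i.1 ∈ free
    · rw [if_pos h]
      simp [l, List.getElem?_map, List.getElem?_idxOf h, i.2]
    · rw [if_neg h, hfix i h]
  have h := List.all_eq_true.1 hok l hlmem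
  simp only [Bool.or_eq_true, beq_iff_eq, List.any_eq_true, Bool.not_eq_true', List.contains_eq_mem,
    decide_eq_false_iff_not] at h
  rcases h with h | ⟨m, hm, h⟩
  · refine Equiv.ext fun i => Fin.ext ?_
    by_cases hi : i.1 ∈ free
    · rw [← htbl i, h]
      simp [tbl, List.getD_eq_getElem?_getD, List.getElem?_range i.2, hi, List.getElem?_idxOf hi]
    · rw [hfix i hi]; rfl
  · refine absurd ?_ h
    obtain ⟨m', hm', e⟩ : (mset n m).image g ∈ fam n K :=
      (CfsgLib.Spor.mem_setSystemAut.1 hg) ▸ Set.mem_image_of_mem (fun b : Finset (Fin n) => b.image g) ⟨m, hm, rfl⟩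
    have : mset n (mapMask (tbl n free l) n m) = mset n m' := by
      rw [← e]
      ext j
      rw [mem_mset, mapMask, testBit_maskFn, mem_image]
      simp only [j.2, decide_true, Bool.true_and, List.any_eq_true, List.mem_range, Bool.and_eq_true, beq_iff_eq]
      constructor
      · rintro ⟨i, hi, hm, he⟩
        exact ⟨⟨i, hi⟩, mem_mset.2 hm, Fin.ext ((htbl ⟨i, hi⟩).symm.trans he)⟩
      · rintro ⟨i, hi, rfl⟩
        exact ⟨i.1, i.2, mem_mset.1 hi, htbl i⟩
    rw [mset_injOn (show mapMask (tbl n free l) n m < 2 ^ n from maskFn_lt _ _) (hK m' hm') this]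
    exact hm'

theorem rigid_k12 : rigidOK 12 k12 [0, 7, 8, 9, 10, 11] = true := by decide +kernel

theorem rigid_k11 : rigidOK 11 k11 [4, 6, 7, 8, 9, 10] = true := by decide +kernel

/-- A fixed family of points and a block through it fix one more point. -/
theorem fix_more {n : ℕ} {K : List ℕ} {g : Equiv.Perm (Fin n)} (hg : g ∈ setSystemAut (fam n K)) {b : ℕ}
    (hb : b ∈ K) (S : List (Fin n)) (hS : ∀ i ∈ S, g i = i) (hSb : ∀ i ∈ S, i ∈ mset n b)
    (huniq : ∀ m ∈ K, (∀ i ∈ S, i ∈ mset n m) → m = b) {j : Fin n} (hjb : j ∈ mset n b)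
    (hj : ∀ i ∈ mset n b, i ∈ S ∨ i = j) : g j = j := by
  by_cases hjS : j ∈ S
  · exact hS j hjS
  obtain ⟨m', hm', e⟩ : (mset n b).image g ∈ fam n K :=
    (CfsgLib.Spor.mem_setSystemAut.1 hg) ▸ Set.mem_image_of_mem (fun b : Finset (Fin n) => b.image g) ⟨b, hb, rfl⟩
  have hm'' : m' = b := huniq m' hm' fun i hi => e ▸ mem_image.2 ⟨i, hSb i hi, hS i hi⟩
  have : g j ∈ mset n b := hm'' ▸ e ▸ mem_image_of_mem _ hjb
  rcases hj _ this with h | h
  · exact absurd (g.injective (hS _ h) ▸ h : j ∈ S) hjS
  · exact h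

theorem rigid12 {g : Equiv.Perm (Fin 12)} (hg : g ∈ setSystemAut (fam 12 k12))
    (hfix : ∀ i : Fin 12, i ∈ [(1 : Fin 12), 2, 3, 4, 5] → g i = i) : g = 1 := by
  have h6 : g 6 = 6 := fix_more hg (b := 126) (by decide +kernel) [(1 : Fin 12), 2, 3, 4, 5] hfix
    (by decide +kernel) (by decide +kernel) (by decide +kernel) (by decide +kernel)
  refine eq_one_of_rigid (by decide +kernel) rigid_k12 (by decide +kernel) (by decide +kernel) hg fun i hi => ?_
  have : i ∈ [(1 : Fin 12), 2, 3, 4, 5, 6] := by revert hi; revert i; decide +kernel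
  rcases List.mem_append.1 (show i ∈ [(1 : Fin 12), 2, 3, 4, 5] ++ [6] from this) with h | h
  · exact hfix i h
  · rw [List.mem_singleton.1 h]; exact h6

theorem rigid11 {g : Equiv.Perm (Fin 11)} (hg : g ∈ setSystemAut (fam 11 k11))
    (hfix : ∀ i : Fin 11, i ∈ [(0 : Fin 11), 1, 2, 3] → g i = i) : g = 1 := by
  have h5 : g 5 = 5 := fix_more hg (b := 47) (by decide +kernel) [(0 : Fin 11), 1, 2, 3] hfix
    (by decide +kernel) (by decide +kernel) (by decide +kernel) (by decide +kernel)
  refine eq_one_of_rigid (by decide +kernel) rigid_k11 (by decide +kernel) (by decide +kernel) hg fun i hi => ?_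
  have : i ∈ [(0 : Fin 11), 1, 2, 3, 5] := by revert hi; revert i; decide +kernel
  rcases List.mem_append.1 (show i ∈ [(0 : Fin 11), 1, 2, 3] ++ [5] from this) with h | h
  · exact hfix i h
  · rw [List.mem_singleton.1 h]; exact h5

end CfsgLib.Spor.Search
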