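/-
The automorphism groups of S(5,6,12) and S(4,5,11) as stabilisers in M24.
-/
import Cfsg.Agent.Lib.Spor.SmallSteiner.Rigid
import Cfsg.Agent.Lib.Spor.M12
import Cfsg.Agent.Lib.Spor.MeetCounts
import Mathlib.GroupTheory.GroupAction.MultipleTransitivity

set_option autoImplicit false

namespace CfsgLib.Spor.Search

open Cfsg Finset
open scoped Pointwise

variable {α : Type*} [Fintype α] [DecidableEq α]

/-- A group of the largest possible order with trivial stabiliser of some tuple is sharply transitive on tuples. -/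
theorem sharp_of_rigid {G : Subgroup (Equiv.Perm α)} {k N : ℕ} (hN : (Fintype.card α).descFactorial k = N)
    (x : Fin k ↪ α) (h : ∀ g ∈ G, (∀ i, g (x i) = x i) → g = 1) :
    Nat.card G ≤ N ∧ (N ≤ Nat.card G → MulAction.IsMultiplyPretransitive G α k ∧
      ∀ y : Fin k ↪ α, MulAction.stabilizer G y = ⊥) := by
  classical
  let Φ : G → (Fin k ↪ α) := fun g => x.trans (Equiv.toEmbedding g.1)
  have hinj : Function.Injective Φ := fun g g' e => by
    have := h _ (G.mul_mem (G.inv_mem g'.2) g.2) fun i => by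
      rw [Equiv.Perm.mul_apply, Equiv.Perm.inv_eq_iff_eq]
      exact congrArg (fun f : Fin k ↪ α => f i) e
    exact Subtype.ext (inv_mul_eq_one.1 this).symm
  have hcard : Nat.card (Fin k ↪ α) = N := by
    rw [Nat.card_eq_fintype_card, Fintype.card_embedding_eq, Fintype.card_fin, hN]
  refine ⟨hcard ▸ Nat.card_le_card_of_injective Φ hinj, fun hle => ?_⟩
  have hbij : Function.Bijective Φ := (Nat.bijective_iff_injective_and_card Φ).2
    ⟨hinj, le_antisymm (Nat.card_le_card_of_injective Φ hinj) (hcard ▸ hle)⟩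
  refine ⟨(MulAction.isMultiplyPretransitive_iff).2 fun y z => ?_, fun y => ?_⟩
  · obtain ⟨a, ha⟩ := hbij.2 y
    obtain ⟨b, hb⟩ := hbij.2 z
    refine ⟨b * a⁻¹, Function.Embedding.ext fun i => ?_⟩
    have e1 : a.1 (x i) = y i := congrArg (fun f : Fin k ↪ α => f i) ha
    have e2 : b.1 (x i) = z i := congrArg (fun f : Fin k ↪ α => f i) hb
    show (b.1 * a.1⁻¹) (y i) = z i
    rw [Equiv.Perm.mul_apply, ← e1, Equiv.Perm.inv_def, Equiv.symm_apply_apply, e2]
  · rw [Subgroup.eq_bot_iff_forall]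
    intro g hg
    obtain ⟨a, ha⟩ := hbij.2 y
    have e : g * a = a := hinj (Function.Embedding.ext fun i => by
      have e1 : a.1 (x i) = y i := congrArg (fun f : Fin k ↪ α => f i) ha
      have e2 : g.1 (y i) = y i := congrArg (fun f : Fin k ↪ α => f i) hg
      show g.1 (a.1 (x i)) = a.1 (x i)
      rw [e1, e2])
    exact mul_eq_right.1 e

/-- The action of a subgroup of `M24` on an invariant set of points. -/
def actOn (G : Subgroup M24) (S : Finset GolayPt) (h : ∀ g ∈ G, ∀ q, (g : Equiv.Perm GolayPt) q ∈ S ↔ q ∈ S) :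
    G →* Equiv.Perm {q // q ∈ S} where
  toFun g := Equiv.Perm.subtypePerm (g : M24).1 (h g.1 g.2)
  map_one' := Equiv.ext fun _ => Subtype.ext rfl
  map_mul' _ _ := Equiv.ext fun _ => Subtype.ext rfl

theorem perm_mem_iff {g : M24} {d : Finset GolayPt} (hg : g • d = d) (q : GolayPt) :
    (g : Equiv.Perm GolayPt) q ∈ d ↔ q ∈ d := by
  conv_lhs => rw [← hg]
  exact Finset.smul_mem_smul_finset_iff g

theorem equiv_of_bound {G H : Type*} [Group G] [Group H] [Finite H] (φ : G →* H) (hinj : Function.Injective φ)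
    (hle : Nat.card H ≤ Nat.card G) : Nonempty (G ≃* H) := by
  haveI : Finite G := Finite.of_injective φ hinj
  exact ⟨MulEquiv.ofBijective φ ((Nat.bijective_iff_injective_and_card φ).2
    ⟨hinj, le_antisymm (Nat.card_le_card_of_injective φ hinj) hle⟩)⟩

theorem rigid_pullback {n k : ℕ} {K : List ℕ} {B : Set (Finset α)} (f : α ≃ Fin n)
    (hf : (fun b : Finset α => b.image f) '' B = fam n K) (x₀ : Fin k ↪ Fin n)
    (h : ∀ g ∈ setSystemAut (fam n K), (∀ i, g (x₀ i) = x₀ i) → g = 1) :
    ∀ g ∈ setSystemAut B, (∀ i, g ((x₀.trans f.symm.toEmbedding) i) = (x₀.trans f.symm.toEmbedding) i) → g = 1 := by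
  intro g hg hfix
  have := h _ (CfsgLib.Spor.conj_mem hf hg) fun i => by
    have e : g (f.symm (x₀ i)) = f.symm (x₀ i) := hfix i
    show f (g (f.symm (x₀ i))) = x₀ i
    rw [e, Equiv.apply_symm_apply]
  exact f.permCongrHom.injective (this.trans (map_one _).symm)

/-- The automorphism group of an S(5,6,12). -/
theorem aut12 (hα : Fintype.card α = 12) {B : Set (Finset α)} (hB : IsSteinerSystem 5 6 B)
    (d : Finset GolayPt) (hd : d ∈ dodecads) :
    Nonempty (MulAction.stabilizer M24 d ≃* setSystemAut B) ∧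
      MulAction.IsMultiplyPretransitive (setSystemAut B) α 5 ∧
      ∀ x : Fin 5 ↪ α, MulAction.stabilizer (setSystemAut B) x = ⊥ := by
  classical
  obtain ⟨f, hf⟩ := steiner12 hα hB
  obtain ⟨hle, hsharp⟩ := sharp_of_rigid (N := 95040) (by rw [hα]; decide +kernel)
    ((⟨![1, 2, 3, 4, 5], by decide +kernel⟩ : Fin 5 ↪ Fin 12).trans f.symm.toEmbedding)
    (rigid_pullback f hf _ fun g hg hfix => rigid12 hg fun i hi => by
      obtain ⟨j, rfl⟩ : ∃ j : Fin 5, (![1, 2, 3, 4, 5] : Fin 5 → Fin 12) j = i := by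
        revert hi; revert i; decide +kernel
      exact hfix j)
  have hcd : Fintype.card {q // q ∈ d} = 12 := by rw [Fintype.card_coe]; exact hd.2
  obtain ⟨f', hf'⟩ := steiner12 hcd (hexads_steiner hd)
  obtain ⟨e, he⟩ := iso_of_fam f' hf' f hf
  let ψ := actOn (MulAction.stabilizer M24 d) d fun g hg q => perm_mem_iff hg q
  have hmem : ∀ g, ψ g ∈ setSystemAut {h : Finset {q // q ∈ d} |
      ∃ o ∈ octads, (o ∩ d).card = 6 ∧ h = Finset.subtype (fun q => q ∈ d) o} := by
    intro g
    rw [CfsgLib.Spor.mem_setSystemAut]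
    refine Set.eq_of_subset_of_ncard_le ?_
      (by rw [Set.ncard_image_of_injective _ (image_injective (Equiv.injective _))]) (Set.toFinite _)
    rintro _ ⟨_, ⟨o, ho, h6, rfl⟩, rfl⟩
    have hgd : (g : M24).1 • d = d := g.2
    refine ⟨(g : M24).1 • o, smul_mem_octads (g : M24).2 ho, ?_, ?_⟩
    · refine (congrArg (fun s => ((g : M24).1 • o ∩ s).card) hgd.symm).trans ?_
      rw [← Finset.smul_finset_inter, Finset.card_smul_finset, h6]
    · ext q
      simp only [mem_image, mem_subtype]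
      rw [Finset.mem_smul_finset]
      constructor
      · rintro ⟨a, ha, rfl⟩; exact ⟨a.1, ha, rfl⟩
      · rintro ⟨a, ha, h⟩
        refine ⟨⟨a, (perm_mem_iff g.2 a).1 ?_⟩, ha, Subtype.ext h⟩
        exact (show (g : M24).1 a = q.1 from h) ▸ q.2
  let φ := (CfsgLib.Spor.autEquiv e he).toMonoidHom.comp (ψ.codRestrict _ hmem)
  have hψ : Function.Injective ψ := by
    rw [injective_iff_map_eq_one]
    intro g hg
    obtain ⟨x⟩ : Nonempty (Fin 5 ↪ {q // q ∈ d}) := Function.Embedding.nonempty_of_card_le (by rw [hcd, Fintype.card_fin]; norm_num)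
    exact Subtype.ext (Subtype.ext (eq_one_of_five (g : M24).2 hd g.2 (x.trans (Function.Embedding.subtype _))
      (fun i => (x i).2) fun i => congrArg Subtype.val (Equiv.ext_iff.1 hg (x i))))
  have hφ : Function.Injective φ := (CfsgLib.Spor.autEquiv e he).injective.comp fun a b h =>
    hψ (congrArg Subtype.val h)
  refine ⟨equiv_of_bound φ hφ (by rw [card_stabilizer_dodecad hd]; exact hle), hsharp ?_⟩
  rw [← card_stabilizer_dodecad hd]
  exact Nat.card_le_card_of_injective φ hφ

/-- The automorphism group of an S(4,5,11). -/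
theorem aut11 (hα : Fintype.card α = 11) {B : Set (Finset α)} (hB : IsSteinerSystem 4 5 B)
    (d : Finset GolayPt) (hd : d ∈ dodecads) (p : GolayPt) (hp : p ∈ d) :
    Nonempty (↥(MulAction.stabilizer M24 d ⊓ MulAction.stabilizer M24 p) ≃* setSystemAut B) ∧
      MulAction.IsMultiplyPretransitive (setSystemAut B) α 4 ∧
      ∀ x : Fin 4 ↪ α, MulAction.stabilizer (setSystemAut B) x = ⊥ := by
  classical
  obtain ⟨f, hf⟩ := steiner11 hα hB
  obtain ⟨hle, hsharp⟩ := sharp_of_rigid (N := 7920) (by rw [hα]; decide +kernel)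
    ((⟨![0, 1, 2, 3], by decide +kernel⟩ : Fin 4 ↪ Fin 11).trans f.symm.toEmbedding)
    (rigid_pullback f hf _ fun g hg hfix => rigid11 hg fun i hi => by
      obtain ⟨j, rfl⟩ : ∃ j : Fin 4, (![0, 1, 2, 3] : Fin 4 → Fin 11) j = i := by
        revert hi; revert i; decide +kernel
      exact hfix j)
  let S := d.erase p
  have hcS : Fintype.card {q // q ∈ S} = 11 := by rw [Fintype.card_coe, card_erase_of_mem hp, hd.2]
  let ι : {q // q ∈ S} ↪ {q // q ∈ d} := ⟨fun q => ⟨q.1, mem_of_mem_erase q.2⟩, fun a b h => Subtype.ext (congrArg (fun x : {q // q ∈ d} => x.1) h)⟩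
  let z : {q // q ∈ d} := ⟨p, hp⟩
  have hι : ∀ x, x ≠ z ↔ ∃ y, ι y = x := fun x =>
    ⟨fun h => ⟨⟨x.1, mem_erase.2 ⟨fun e => h (Subtype.ext e), x.2⟩⟩, rfl⟩,
      fun ⟨y, hy⟩ h => (mem_erase.1 y.2).1 (congrArg Subtype.val (hy.trans h))⟩
  have hD := derived (hexads_steiner hd) ι z hι
  obtain ⟨f', hf'⟩ := steiner11 hcS hD
  obtain ⟨e, he⟩ := iso_of_fam f' hf' f hf
  have hinv : ∀ g ∈ MulAction.stabilizer M24 d ⊓ MulAction.stabilizer M24 p,
      ∀ q, (g : Equiv.Perm GolayPt) q ∈ S ↔ q ∈ S := by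
    intro g hg q
    rw [mem_erase, mem_erase, perm_mem_iff hg.1]
    refine and_congr_left fun _ => not_congr ?_
    have hgp : (g : Equiv.Perm GolayPt) p = p := hg.2
    exact ⟨fun h => (g : Equiv.Perm GolayPt).injective (h.trans hgp.symm), fun h => h ▸ hgp⟩
  let ψ := actOn _ S hinv
  have hmem : ∀ g, ψ g ∈ setSystemAut {c : Finset {q // q ∈ S} | insert z (c.map ι) ∈
      {h : Finset {q // q ∈ d} | ∃ o ∈ octads, (o ∩ d).card = 6 ∧ h = Finset.subtype (fun q => q ∈ d) o}} := by
    intro g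
    rw [CfsgLib.Spor.mem_setSystemAut]
    refine Set.eq_of_subset_of_ncard_le ?_
      (by rw [Set.ncard_image_of_injective _ (image_injective (Equiv.injective _))]) (Set.toFinite _)
    rintro _ ⟨c, ⟨o, ho, h6, hc⟩, rfl⟩
    have hgd : (g : M24).1 • d = d := g.2.1
    have hgp : (g : M24).1 p = p := g.2.2
    refine ⟨(g : M24).1 • o, smul_mem_octads (g : M24).2 ho, ?_, ?_⟩
    · refine (congrArg (fun s => ((g : M24).1 • o ∩ s).card) hgd.symm).trans ?_
      rw [← Finset.smul_finset_inter, Finset.card_smul_finset, h6]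
    · ext q
      have key : ∀ a : {q // q ∈ d}, a ∈ insert z (c.map ι) ↔ a.1 ∈ o := fun a => by rw [hc, mem_subtype]
      obtain ⟨a, ha⟩ : ∃ a : {q // q ∈ d}, (g : M24).1 a.1 = q.1 :=
        ⟨⟨(g : M24).1.symm q.1, (perm_mem_iff g.2.1 _).1 (by simp)⟩, by simp⟩
      rw [mem_subtype, ← ha, show (g : M24).1 a.1 = (g : M24).1 • a.1 from rfl, Finset.smul_mem_smul_finset_iff,
        ← key a, mem_insert, mem_insert]
      refine or_congr ?_ ?_
      · constructor
        · intro h; apply Subtype.ext; rw [h] at ha; exact (g : M24).1.injective (ha.trans hgp.symm)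
        · intro h; apply Subtype.ext; rw [h] at ha; exact ha.symm.trans hgp
      · simp only [mem_map, mem_image]
        constructor
        · rintro ⟨_, ⟨b, hb, rfl⟩, h⟩
          exact ⟨b, hb, Subtype.ext ((g : M24).1.injective ((congrArg Subtype.val h).trans ha.symm))⟩
        · rintro ⟨b, hb, rfl⟩
          exact ⟨_, ⟨b, hb, rfl⟩, Subtype.ext ha⟩
  let φ := (CfsgLib.Spor.autEquiv e he).toMonoidHom.comp (ψ.codRestrict _ hmem)
  have hψ : Function.Injective ψ := by
    rw [injective_iff_map_eq_one]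
    intro g hg
    obtain ⟨x⟩ : Nonempty (Fin 5 ↪ {q // q ∈ S}) := Function.Embedding.nonempty_of_card_le (by rw [hcS, Fintype.card_fin]; norm_num)
    exact Subtype.ext (Subtype.ext (eq_one_of_five (g : M24).2 hd g.2.1 (x.trans (Function.Embedding.subtype _))
      (fun i => mem_of_mem_erase (x i).2) fun i => congrArg Subtype.val (Equiv.ext_iff.1 hg (x i))))
  have hφ : Function.Injective φ := (CfsgLib.Spor.autEquiv e he).injective.comp fun a b h =>
    hψ (congrArg Subtype.val h)
  refine ⟨equiv_of_bound φ hφ (by rw [card_stabilizer_dodecad_point hd hp]; exact hle), hsharp ?_⟩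
  rw [← card_stabilizer_dodecad_point hd hp]
  exact Nat.card_le_card_of_injective φ hφ

end CfsgLib.Spor.Search
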